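import Groth.Agent.Lib.GrassGen.ExtPowFree
import Groth.Agent.Lib.Kaehler.SmoothChart
import Groth.Agent.Lib.Kaehler.DOmega
import Groth.Agent.Lib.JacCrit.OverField
import Groth.Agent.Lib.Modules.TensorSec

/-!
# Preliminaries for descent of families of del Pezzo surfaces
-/

set_option autoImplicit false
set_option linter.style.haveILetI false
set_option backward.isDefEq.respectTransparency false
universe u

open CategoryTheory CategoryTheory.Limits AlgebraicGeometry Opposite exteriorPower

noncomputable section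

namespace Groth.Agent.Lib.DelPezzoDesc

open Groth.Agent.Lib
open Groth.Agent.Lib.TensorMod.Dual (rs)
open Groth.Agent.Lib.Modules.TensorSec (app_rs)

/-- Sections of isomorphic modules. -/
def secEquiv {X : Scheme.{u}} {E E' : X.Modules} (e : E ≅ E') (U : X.Opens) :
    Γ(E, U) ≃ₗ[Γ(X, U)] Γ(E', U) where
  toFun x := e.hom.app U x
  invFun x := e.inv.app U x
  map_add' a b := map_add _ _ _
  map_smul' r a := Scheme.Modules.Hom.app_smul e.hom r a
  left_inv x := by
    show (e.hom ≫ e.inv).app U x = x
    rw [e.hom_inv_id]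
    rfl
  right_inv x := by
    show (e.inv ≫ e.hom).app U x = x
    rw [e.inv_hom_id]
    rfl

/-- Exterior powers of isomorphic modules. -/
theorem isExtPow_congr {X : Scheme.{u}} {E E' L : X.Modules} (e : E ≅ E') {i : ℕ}
    (h : ExtPow.IsExtPow i E L) : ExtPow.IsExtPow i E' L := by
  obtain ⟨φ, hφ⟩ := h
  let m : ∀ U : X.affineOpens, ↥(⋀[Γ(X, U.1)]^i Γ(E, U.1)) ≃ₗ[Γ(X, U.1)] ↥(⋀[Γ(X, U.1)]^i Γ(E', U.1)) :=
    fun U => LinearEquiv.ofLinearMap (exteriorPower.map i (secEquiv e U.1).toLinearMap)
      (exteriorPower.map i (secEquiv e U.1).symm.toLinearMap)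
      (by rw [← exteriorPower.map_comp, LinearEquiv.comp_coe, LinearEquiv.symm_trans_self,
          LinearEquiv.refl_toLinearMap, exteriorPower.map_id])
      (by rw [← exteriorPower.map_comp, LinearEquiv.comp_coe, LinearEquiv.self_trans_symm,
          LinearEquiv.refl_toLinearMap, exteriorPower.map_id])
  refine ⟨fun U => φ U ≪≫ₗ m U, fun U V hUV s => ?_⟩
  have key : ∀ (W : X.affineOpens) (t : Fin i → Γ(E', W.1)),
      (φ W ≪≫ₗ m W).symm (ιMulti Γ(X, W.1) i t) =
        (φ W).symm (ιMulti Γ(X, W.1) i fun j => e.inv.app W.1 (t j)) := fun W t =>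
    congrArg (φ W).symm (exteriorPower.map_apply_ιMulti _ _)
  refine (congrArg (L.val.map (homOfLE hUV).op) (key U s)).trans
    ((hφ U V hUV _).trans (Eq.trans ?_ (key V fun j => E'.val.map (homOfLE hUV).op (s j)).symm))
  exact congrArg (fun t => (φ V).symm (ιMulti Γ(X, V.1) i t))
    (funext fun j => (app_rs e.inv hUV (s j)).symm)

/-- Differentials of an integral variety smooth over a field are free of rank the dimension, locally. -/
theorem rank_omega_of_dim {k : Type u} [Field k] {X : Scheme.{u}} (q : X ⟶ Spec (CommRingCat.of k))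
    [IsIntegral X] [Smooth q] [LocallyOfFiniteType q] [QuasiSeparated q] (d : ℕ)
    (hdim : topologicalKrullDim X = (d : WithBot ℕ∞)) :
    FlatMod.IsFinLocFreeOfRank d (Omega.sheaf q) := by
  intro x
  obtain ⟨U, m, hx, hiso, hm⟩ :=
    Kaehler.SmoothChart.exists_free_fibreDim (Kaehler.DOmega.isUniversal_dOmega q) x
  rw [JacCrit.OverField.fibreDimAt_eq_localDim, JacCrit.OverField.localDim_eq_of_irreducible q x,
    hdim] at hm
  obtain rfl : d = m := by exact_mod_cast hm
  exact ⟨U, hx, hiso⟩

end Groth.Agent.Lib.DelPezzoDesc
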